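import Cfsg.Agent.Lib.Fusion.AltFusion

/-!
Strongly closed subgroups of Sylow `2`-subgroups of the alternating group of degree `11`.
-/

set_option autoImplicit false

open Equiv Equiv.Perm

namespace CfsgLib.KnownB.LyFusion

open Cfsg Cfsg.FusionSystem CfsgLib.Fusion

/-- A nontrivial subgroup of a Sylow `2`-subgroup of `A_11` closed under fusion is everything. -/
theorem alt_closed_eq (S : Sylow 2 (alternatingGroup (Fin 11)))
    (T : Subgroup (alternatingGroup (Fin 11))) (hTS : T ≤ (S : Subgroup (alternatingGroup (Fin 11))))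
    (hT : ∀ x ∈ T, ∀ g : alternatingGroup (Fin 11),
      g * x * g⁻¹ ∈ (S : Subgroup (alternatingGroup (Fin 11))) → g * x * g⁻¹ ∈ T)
    (hne : T ≠ ⊥) : (S : Subgroup (alternatingGroup (Fin 11))) ≤ T := by
  haveI : Fact (Nat.Prime 2) := ⟨Nat.prime_two⟩
  obtain ⟨emb⟩ := CfsgLib.Fusion.AltModel.exists_emb (p := 2) (m := 5) (by norm_num)
  obtain ⟨S₀, hS₀⟩ := IsPGroup.exists_le_sylow
    ((CfsgLib.Fusion.AltModel.bigR_isPGroup (r := 1) emb).comap_of_injective
      (alternatingGroup (CfsgLib.BlockApps.SylowSymGen.Pt 5 2 1)).subtype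
      (Subgroup.subtype_injective _))
  let e : CfsgLib.BlockApps.SylowSymGen.Pt 5 2 1 ≃ Fin 11 := Fintype.equivFinOfCardEq (by simp)
  let φ := Equiv.altCongrHom e
  obtain ⟨c, hc⟩ := MulAction.exists_smul_eq (alternatingGroup (Fin 11))
    (S₀.mapSurjective (f := φ.toMonoidHom) φ.surjective) S
  let ψ := φ.trans (MulAut.conj c)
  have hmap : ∀ x, x ∈ (S₀ : Subgroup _) ↔ ψ x ∈ (S : Subgroup (alternatingGroup (Fin 11))) := by
    intro x
    rw [← hc, Sylow.coe_subgroup_smul]
    constructor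
    · intro hx
      exact Subgroup.smul_mem_pointwise_smul (φ x) _ _ (Subgroup.mem_map_of_mem _ hx)
    · intro hx
      have h' : φ x ∈ (S₀ : Subgroup _).map φ.toMonoidHom := Subgroup.smul_mem_pointwise_smul_iff.1 hx
      obtain ⟨y, hy, hye⟩ := h'
      exact φ.injective hye ▸ hy
  have hT₀ : (groupFusionSystem (S₀ : Subgroup _)).StronglyClosed (T.comap ψ.toMonoidHom) := by
    refine stronglyClosed_iff.2 ⟨fun x hx => (hmap x).2 (hTS hx), fun P f hf x hxP hxT => ?_⟩
    obtain ⟨-, hfS, g, hg⟩ := isMor_group.mp hf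
    have h1 := (hmap _).1 (hfS x hxP)
    rw [hg x hxP] at h1 ⊢
    show ψ (g * x * g⁻¹) ∈ T
    rw [map_mul, map_mul, map_inv]
    exact hT (ψ x) hxT (ψ g) (by simpa only [cj_apply, map_mul, map_inv] using h1)
  have h := CfsgLib.Fusion.AltModel.closed_eq (by norm_num) le_rfl emb S₀ hS₀ hT₀ fun hb => hne (by
    refine (Subgroup.eq_bot_iff_forall _).2 fun y hy => ?_
    obtain ⟨x, rfl⟩ := ψ.surjective y
    have hx : x ∈ (T.comap ψ.toMonoidHom) := hy
    rw [hb, Subgroup.mem_bot] at hx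
    rw [hx, map_one])
  intro y hy
  obtain ⟨x, rfl⟩ := ψ.surjective y
  exact h ((hmap x).2 hy)

end CfsgLib.KnownB.LyFusion
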