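import Cfsg.Agent.Lib.Recog.CarmichaelPresentation

/-!
In a non-split double cover of the alternating group of degree `11` the lifts of double
transpositions have order `4`, and only the centre is central in a Sylow `2`-subgroup.
-/

set_option autoImplicit false
set_option maxRecDepth 100000

namespace CfsgLib.KnownB.LyFusion

open Subgroup Equiv Equiv.Perm

local notation "A11" => alternatingGroup (Fin 11)

/-- The data of a double cover of the alternating group of degree `11`. -/
structure Cov {C : Type*} [Group C] (π : C →* A11) (t : C) : Prop where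
  surj : Function.Surjective π
  ker : ∀ a, π a = 1 ↔ a = 1 ∨ a = t
  ne : t ≠ 1
  sq : t * t = 1
  comm : ∀ a, a * t = t * a
  nonsplit : ¬ ∃ L : Subgroup C, Nat.card L = Nat.card A11 ∧ t ∉ L

/-- A double transposition. -/
def IsDT (s : A11) : Prop :=
  (s : Perm (Fin 11)) ^ 2 = 1 ∧ (s : Perm (Fin 11)).support.card = 4

/-- Carmichael's generators as elements of the alternating group. -/
def cgen (i : Fin 9) : A11 :=
  ⟨CfsgLib.Recog.carmichaelGen 9 i, CfsgLib.Recog.carmichaelGen_mem 9 i⟩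

theorem cgen_facts :
    ((CfsgLib.Recog.carmichaelGen 9 0) ^ 3 = 1 ∧ CfsgLib.Recog.carmichaelGen 9 0 ≠ 1) ∧
    (∀ i : Fin 9, 1 ≤ i.val → (CfsgLib.Recog.carmichaelGen 9 i) ^ 2 = 1 ∧
      (CfsgLib.Recog.carmichaelGen 9 i).support.card = 4) ∧
    (∀ i j : Fin 9, j.val = i.val + 1 →
      (CfsgLib.Recog.carmichaelGen 9 i * CfsgLib.Recog.carmichaelGen 9 j) ^ 3 = 1) ∧
    (∀ i j : Fin 9, i.val + 1 < j.val →
      (CfsgLib.Recog.carmichaelGen 9 i * CfsgLib.Recog.carmichaelGen 9 j) ^ 2 = 1 ∧
      (CfsgLib.Recog.carmichaelGen 9 i * CfsgLib.Recog.carmichaelGen 9 j).support.card = 4) := by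
  decide +kernel

section

variable {C : Type*} [Group C] {π : C →* A11} {t : C}

theorem Cov.eq_or (h : Cov π t) {a b : C} (e : π a = π b) : a = b ∨ a = b * t := by
  rcases (h.ker (b⁻¹ * a)).1 (by rw [map_mul, map_inv, e, inv_mul_cancel]) with e' | e'
  · exact Or.inl (inv_mul_eq_one.1 e').symm
  · exact Or.inr (eq_mul_of_inv_mul_eq e')

theorem Cov.pi_t (h : Cov π t) : π t = 1 := (h.ker t).2 (Or.inr rfl)

theorem Cov.mul_t_cube (h : Cov π t) (a : C) : (a * t) ^ 3 = a ^ 3 * t := by
  rw [Commute.mul_pow (h.comm a), pow_succ t, pow_two, h.sq, one_mul]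

/-- A lift with trivial cube. -/
theorem Cov.lift_cube (h : Cov π t) {a : C} (e : π a ^ 3 = 1) :
    a ^ 3 = 1 ∨ (a * t) ^ 3 = 1 := by
  rcases (h.ker (a ^ 3)).1 (by rw [map_pow, e]) with e' | e'
  · exact Or.inl e'
  · exact Or.inr (by rw [h.mul_t_cube, e', h.sq])

theorem Cov.sq_mul_t (h : Cov π t) (a : C) : a * t * (a * t) = a * a := by
  rw [mul_assoc, ← mul_assoc t, ← h.comm a, mul_assoc a t t, h.sq, mul_one]

/-- The square of a lift depends only on the class in the alternating group. -/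
theorem Cov.sq_of_conj (h : Cov π t) {a b c : C} (e : π c * π a * (π c)⁻¹ = π b) (ha : a * a = 1) :
    b * b = 1 := by
  have hc : c * a * c⁻¹ * (c * a * c⁻¹) = 1 := by
    rw [show c * a * c⁻¹ * (c * a * c⁻¹) = c * (a * a) * c⁻¹ by group, ha, mul_one, mul_inv_cancel]
  rcases h.eq_or (a := b) (b := c * a * c⁻¹) (by rw [map_mul, map_mul, map_inv, e]) with rfl | rfl
  · exact hc
  · rw [h.sq_mul_t, hc]

end

theorem dt_conj {σ τ : A11} (hσ : IsDT σ) (hτ : IsDT τ) : ∃ q : A11, q * σ * q⁻¹ = τ := by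
  have key : ∀ ρ : A11, IsDT ρ → (ρ : Perm (Fin 11)).cycleType = Multiset.replicate 2 2 := by
    intro ρ hρ
    haveI : Fact (Nat.Prime 2) := ⟨Nat.prime_two⟩
    have h1 := cycleType_of_pow_prime_eq_one hρ.1
    have h2 := sum_cycleType (ρ : Perm (Fin 11))
    rw [h1, Multiset.sum_replicate, smul_eq_mul, hρ.2] at h2
    rw [h1]
    congr 1
    omega
  obtain ⟨q, hq⟩ := _root_.isConj_iff.1
    (Equiv.Perm.isConj_iff_cycleType_eq.2 ((key σ hσ).trans (key τ hτ).symm))
  rcases Int.units_eq_one_or (Equiv.Perm.sign q) with hs | hs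
  · exact ⟨⟨q, Equiv.Perm.mem_alternatingGroup.2 hs⟩, Subtype.ext hq⟩
  · obtain ⟨x, hx⟩ : ∃ x, (σ : Perm (Fin 11)) x ≠ x := by
      by_contra hn
      push Not at hn
      have := hσ.2
      rw [show (σ : Perm (Fin 11)) = 1 from Equiv.ext hn, support_one] at this
      simp at this
    have hinvol : ∀ y, (σ : Perm (Fin 11)) ((σ : Perm (Fin 11)) y) = y := fun y => by
      have := congrArg (fun e : Perm (Fin 11) => e y) hσ.1
      simpa [pow_two] using this
    set s := Equiv.swap x ((σ : Perm (Fin 11)) x) with hsdef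
    have hcomm : s * (σ : Perm (Fin 11)) * s⁻¹ = σ := by
      have h1 : (σ : Perm (Fin 11)) * s * (σ : Perm (Fin 11))⁻¹ = s := by
        rw [hsdef, ← Equiv.swap_apply_apply, hinvol, Equiv.swap_comm]
      rw [mul_inv_eq_iff_eq_mul] at h1 ⊢
      exact h1.symm
    refine ⟨⟨q * s, Equiv.Perm.mem_alternatingGroup.2 ?_⟩, Subtype.ext ?_⟩
    · rw [map_mul, hs, hsdef, Equiv.Perm.sign_swap (Ne.symm hx)]; decide
    · show q * s * (σ : Perm (Fin 11)) * (q * s)⁻¹ = τ
      rw [show q * s * (σ : Perm (Fin 11)) * (q * s)⁻¹ =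
        q * (s * (σ : Perm (Fin 11)) * s⁻¹) * q⁻¹ by group, hcomm, hq]

section

variable {C : Type*} [Group C] {π : C →* A11} {t : C}

/-- The lifts of double transpositions square to the central involution. -/
theorem Cov.sq_dt (h : Cov π t) {a : C} (ha : IsDT (π a)) : a * a = t := by
  have h1 : π (a * a) = 1 := by
    rw [map_mul]
    exact Subtype.ext ((pow_two _).symm.trans ha.1)
  refine ((h.ker _).1 h1).resolve_left fun haa => h.nonsplit ?_
  have hdt : ∀ b : C, IsDT (π b) → b * b = 1 := by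
    intro b hb
    obtain ⟨q, hq⟩ := dt_conj ha hb
    obtain ⟨c, rfl⟩ := h.surj q
    exact h.sq_of_conj hq haa
  obtain ⟨⟨f0, f0'⟩, f1, f2, f3⟩ := cgen_facts
  let gi : ℕ → A11 := fun i => if hi : i < 9 then cgen ⟨i, hi⟩ else 1
  have hstep : ∀ (b : C) (i : ℕ), ∃ c, π c = gi (i + 1) ∧
      (i + 1 < 9 → π b = gi i → (b * c) ^ 3 = 1) := by
    intro b i
    obtain ⟨c, hc⟩ := h.surj (gi (i + 1))
    by_cases hi : i + 1 < 9 ∧ π b = gi i
    · have e : π (b * c) ^ 3 = 1 := by
        rw [map_mul, hi.2, hc]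
        refine Subtype.ext ?_
        simp only [gi, dif_pos (show i < 9 by omega), dif_pos hi.1, SubmonoidClass.coe_pow,
          Subgroup.coe_mul, OneMemClass.coe_one, cgen]
        exact f2 _ _ rfl
      rcases h.lift_cube e with e' | e'
      · exact ⟨c, hc, fun _ _ => e'⟩
      · exact ⟨c * t, by rw [map_mul, hc, h.pi_t, mul_one],
          fun _ _ => by rw [← mul_assoc]; exact e'⟩
    · exact ⟨c, hc, fun h1 h2 => absurd ⟨h1, h2⟩ hi⟩
  choose nxt hn1 hn2 using hstep
  obtain ⟨y0, hy0, hy0'⟩ : ∃ y, π y = gi 0 ∧ y ^ 3 = 1 := by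
    obtain ⟨y, hy⟩ := h.surj (gi 0)
    have e : π y ^ 3 = 1 := by
      rw [hy]
      refine Subtype.ext ?_
      simp only [gi, dif_pos (show 0 < 9 by omega), SubmonoidClass.coe_pow, OneMemClass.coe_one, cgen]
      exact f0
    rcases h.lift_cube e with e' | e'
    · exact ⟨y, hy, e'⟩
    · exact ⟨y * t, by rw [map_mul, hy, h.pi_t, mul_one], e'⟩
  let Y : ℕ → C := fun n => Nat.rec y0 (fun i b => nxt b i) n
  have hY : ∀ n, π (Y n) = gi n := by
    intro n
    cases n with
    | zero => exact hy0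
    | succ k => exact hn1 _ k
  have hYi : ∀ i : Fin 9, (π (Y i) : Perm (Fin 11)) = CfsgLib.Recog.carmichaelGen 9 i := fun i => by
    rw [hY]; simp only [gi, dif_pos i.isLt, cgen]
  have hrel : ∀ r ∈ CfsgLib.Recog.carmichaelRelators 9,
      FreeGroup.lift (fun i : Fin 9 => Y i) r = 1 := by
    rintro r (((⟨i, hi, rfl⟩ | ⟨i, hi, rfl⟩) | ⟨i, j, hij, rfl⟩) | ⟨i, j, hij, rfl⟩)
    · simp only [map_pow, FreeGroup.lift_apply_of, hi]
      exact hy0'
    · simp only [map_pow, FreeGroup.lift_apply_of]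
      refine (pow_two _).trans (hdt _ ?_)
      rw [IsDT, hYi]
      exact f1 i hi
    · simp only [map_pow, map_mul, FreeGroup.lift_apply_of]
      have := hn2 (Y i.val) i.val (by omega) (hY _)
      rw [hij]
      exact this
    · simp only [map_pow, map_mul, FreeGroup.lift_apply_of]
      refine (pow_two _).trans (hdt _ ?_)
      rw [IsDT, map_mul, Subgroup.coe_mul, hYi, hYi]
      exact f3 i j hij
  obtain ⟨e⟩ := CfsgLib.Recog.presentation_alternating 9 (by omega)
  let φ : A11 →* C := (PresentedGroup.toGroup hrel).comp e.symm.toMonoidHom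
  haveI hs : IsSimpleGroup A11 := alternatingGroup.isSimpleGroup (by simp)
  have hinj : Function.Injective φ := by
    rw [← MonoidHom.ker_eq_bot_iff]
    refine (IsSimpleGroup.eq_bot_or_eq_top_of_normal φ.ker inferInstance).resolve_right fun hk => ?_
    have h' : φ (e (PresentedGroup.of (0 : Fin 9))) = 1 :=
      MonoidHom.mem_ker.1 (hk ▸ mem_top _)
    simp only [φ, MonoidHom.comp_apply, MulEquiv.coe_toMonoidHom, MulEquiv.symm_apply_apply,
      PresentedGroup.toGroup.of] at h'
    have h'' := hYi 0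
    rw [h', map_one, OneMemClass.coe_one] at h''
    exact f0' h''.symm
  refine ⟨φ.range, (Nat.card_congr (MonoidHom.ofInjective hinj).toEquiv).symm, ?_⟩
  rintro ⟨z, hz⟩
  have hzc : z ∈ Subgroup.center A11 := Subgroup.mem_center_iff.2 fun x => hinj (by
    rw [map_mul, map_mul, hz, h.comm])
  rw [alternatingGroup.center_eq_bot (by simp), mem_bot] at hzc
  rw [hzc, map_one] at hz
  exact h.ne hz.symm

/-- Conjugation by a permutation of the points. -/
def conjA (q : Perm (Fin 11)) : A11 →* A11 where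
  toFun s := ⟨q * s * q⁻¹, by
    rw [Perm.mem_alternatingGroup, map_mul, map_mul, map_inv, Perm.mem_alternatingGroup.1 s.2, mul_one,
      mul_inv_cancel]⟩
  map_one' := Subtype.ext (by simp)
  map_mul' a b := Subtype.ext (by simp [mul_assoc])

theorem Cov.conj (h : Cov π t) (q : Perm (Fin 11)) : Cov ((conjA q).comp π) t where
  surj s := by
    obtain ⟨a, ha⟩ := h.surj (conjA q⁻¹ s)
    refine ⟨a, Subtype.ext ?_⟩
    simp [ha, conjA, mul_assoc]
  ker a := by
    rw [← h.ker a]
    constructor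
    · intro e
      refine Subtype.ext ?_
      have := congrArg Subtype.val e
      simpa [conjA] using this
    · intro e; simp [e]
  ne := h.ne
  sq := h.sq
  comm := h.comm
  nonsplit := h.nonsplit

/-- Lifts of commuting elements, one of order `3`, commute. -/
theorem Cov.commute_three (h : Cov π t) {x e : C} (hx : π x ^ 3 = 1)
    (hc : π x * π e = π e * π x) : x * e = e * x := by
  obtain ⟨x', hx', hxe⟩ : ∃ x', x' ^ 3 = 1 ∧ (x = x' ∨ x = x' * t) := by
    rcases h.lift_cube hx with h1 | h1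
    · exact ⟨x, h1, Or.inl rfl⟩
    · exact ⟨x * t, h1, Or.inr (by rw [mul_assoc, h.sq, mul_one])⟩
  have hc' : π x' * π e = π e * π x' := by
    rcases hxe with rfl | rfl
    · exact hc
    · simpa [h.pi_t] using hc
  have key : x' * e = e * x' := by
    rcases h.eq_or (a := e * x' * e⁻¹) (b := x') (by
      rw [map_mul, map_mul, map_inv, ← hc', mul_inv_cancel_right]) with h1 | h1
    · rw [mul_inv_eq_iff_eq_mul] at h1
      exact h1.symm
    · exfalso
      have h3 := congrArg (· ^ 3) h1
      simp only [conj_pow, h.mul_t_cube, hx', mul_one, one_mul, mul_inv_cancel] at h3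
      exact h.ne h3.symm
  rcases hxe with rfl | rfl
  · exact key
  · rw [mul_assoc, ← h.comm, ← mul_assoc, key, mul_assoc]

/-- The first double transposition. -/
def mD : A11 := ⟨swap 0 1 * swap 2 3, Perm.mem_alternatingGroup.2 (by decide)⟩
/-- The second double transposition. -/
def mE : A11 := ⟨swap 4 5 * swap 6 7, Perm.mem_alternatingGroup.2 (by decide)⟩
/-- A `3`-cycle. -/
def mX : A11 := ⟨swap 0 2 * swap 0 1, Perm.mem_alternatingGroup.2 (by decide)⟩
/-- Another `3`-cycle. -/
def mY : A11 := ⟨swap 0 1 * swap 1 3, Perm.mem_alternatingGroup.2 (by decide)⟩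

theorem model_facts :
    ((mX * mY) * mD = mD * (mX * mY) ∧ (mX * mY) * mE = mE * (mX * mY)) ∧
    (mX * mE = mE * mX ∧ mY * mE = mE * mY ∧ mX ^ 3 = 1 ∧ mY ^ 3 = 1) ∧
    (((mX * mY : A11) : Perm (Fin 11)) ^ 2 = 1 ∧ ((mX * mY : A11) : Perm (Fin 11)).support.card = 4) ∧
    ((mD : Perm (Fin 11)) ^ 2 = 1 ∧ (mD : Perm (Fin 11)).support.card = 4) ∧
    (((mX * mY * mD : A11) : Perm (Fin 11)) ^ 2 = 1 ∧
      ((mX * mY * mD : A11) : Perm (Fin 11)).support.card = 4) ∧
    ((mD : Perm (Fin 11)).cycleType = Multiset.replicate 2 2 ∧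
      ((mD * mE : A11) : Perm (Fin 11)).cycleType = Multiset.replicate 4 2) := by
  refine ⟨by decide +kernel, by decide +kernel, by decide +kernel, by decide +kernel,
    by decide +kernel, by decide +kernel⟩

theorem Cov.not_commute_model (h : Cov π t) {u : C} (hu : π u = mD ∨ π u = mD * mE) :
    ∃ g, π g * π u = π u * π g ∧ g * u ≠ u * g := by
  obtain ⟨⟨m1, m2⟩, ⟨m3, m4, m5, m6⟩, m7, m8, m9, -⟩ := model_facts
  obtain ⟨x, hx⟩ := h.surj mX
  obtain ⟨y, hy⟩ := h.surj mY
  obtain ⟨d, hd⟩ := h.surj mD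
  have hb : π (x * y) = mX * mY := by rw [map_mul, hx, hy]
  have hbd : x * y * d ≠ d * (x * y) := by
    intro e
    have h1 : (x * y * d) * (x * y * d) = t := h.sq_dt (by rw [map_mul, hb, hd]; exact m9)
    have h2 : (x * y) * (x * y) = t := h.sq_dt (by rw [hb]; exact m7)
    have h3 : d * d = t := h.sq_dt (by rw [hd]; exact m8)
    have h4 : (x * y * d) * (x * y * d) = (x * y) * (x * y) * (d * d) := by
      calc (x * y * d) * (x * y * d) = x * y * (d * (x * y)) * d := by group
        _ = x * y * (x * y * d) * d := by rw [← e]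
        _ = (x * y) * (x * y) * (d * d) := by group
    rw [h1, h2, h3, h.sq] at h4
    exact h.ne h4
  refine ⟨x * y, ?_, fun e => hbd ?_⟩
  · rcases hu with hu | hu <;> rw [hu, hb]
    · exact m1
    · rw [← mul_assoc, m1, mul_assoc, m2, ← mul_assoc]
  rcases hu with hu | hu
  · rcases h.eq_or (a := u) (b := d) (hu.trans hd.symm) with rfl | rfl
    · exact e
    · rw [← mul_assoc, mul_assoc d t, ← h.comm (x * y), ← mul_assoc d] at e
      exact mul_right_cancel e
  · obtain ⟨f, hf⟩ := h.surj mE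
    have hxf : x * f = f * x := h.commute_three (by rw [hx, m5]) (by rw [hx, hf, m3])
    have hyf : y * f = f * y := h.commute_three (by rw [hy, m6]) (by rw [hy, hf, m4])
    have hbf : x * y * f = f * (x * y) := by rw [mul_assoc, hyf, ← mul_assoc, hxf, mul_assoc]
    have e2 : x * y * (d * f) = d * f * (x * y) := by
      rcases h.eq_or (a := u) (b := d * f) (by rw [hu, map_mul, hd, hf]) with rfl | rfl
      · exact e
      · rw [← mul_assoc, mul_assoc (d * f) t, ← h.comm (x * y), ← mul_assoc (d * f)] at e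
        exact mul_right_cancel e
    rw [← mul_assoc, mul_assoc d f, ← hbf, ← mul_assoc d] at e2
    exact mul_right_cancel e2

/-- Over every involution a lift fails to be central in its preimage of the centraliser. -/
theorem Cov.not_commute (h : Cov π t) {u : C} (hu : orderOf (π u) = 2) :
    ∃ g, π g * π u = π u * π g ∧ g * u ≠ u * g := by
  haveI : Fact (Nat.Prime 2) := ⟨Nat.prime_two⟩
  obtain ⟨-, -, -, -, -, c1, c2⟩ := model_facts
  set s := π u with hs
  have hsq : (s : Perm (Fin 11)) ^ 2 = 1 := by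
    have := congrArg Subtype.val (pow_orderOf_eq_one s)
    rwa [hu] at this
  have hct := cycleType_of_pow_prime_eq_one hsq
  set k := Multiset.card (s : Perm (Fin 11)).cycleType
  have hk0 : k ≠ 0 := fun e => by
    have : (s : Perm (Fin 11)).cycleType = 0 := Multiset.card_eq_zero.1 e
    rw [show s = 1 from Subtype.ext (cycleType_eq_zero.1 this), orderOf_one] at hu
    omega
  have hsum : k * 2 ≤ 11 := by
    have h1 := sum_cycleType (s : Perm (Fin 11))
    rw [hct, Multiset.sum_replicate, smul_eq_mul] at h1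
    have h2 := Finset.card_le_univ (s : Perm (Fin 11)).support
    rw [Fintype.card_fin] at h2
    omega
  have heven : Even (k * 2 + k) := by
    have h1 := Perm.mem_alternatingGroup.1 s.2
    rw [sign_of_cycleType, hct, Multiset.sum_replicate, Multiset.card_replicate, smul_eq_mul] at h1
    exact (neg_one_pow_eq_one_iff_even (R := ℤ) (by norm_num)).1 (by
      simpa using congrArg Units.val h1)
  obtain ⟨M, hM, hMc⟩ : ∃ M : A11, (M = mD ∨ M = mD * mE) ∧
      (M : Perm (Fin 11)).cycleType = (s : Perm (Fin 11)).cycleType := by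
    obtain ⟨j, hj⟩ := heven
    rcases (show k = 2 ∨ k = 4 by omega) with hk | hk
    · exact ⟨mD, Or.inl rfl, by rw [c1, hct, hk]⟩
    · exact ⟨mD * mE, Or.inr rfl, by rw [c2, hct, hk]⟩
  obtain ⟨q, hq⟩ := _root_.isConj_iff.1 (Equiv.Perm.isConj_iff_cycleType_eq.2 hMc.symm)
  have hq' : conjA q s = M := Subtype.ext hq
  obtain ⟨g, hg, hgu⟩ := (h.conj q).not_commute_model (u := u) (by
    show conjA q s = mD ∨ conjA q s = mD * mE
    rw [hq']; exact hM)
  refine ⟨g, ?_, hgu⟩
  have : conjA q (π g * π u) = conjA q (π u * π g) := by rw [map_mul, map_mul]; exact hg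
  have := congrArg Subtype.val this
  exact Subtype.ext (mul_right_cancel (mul_left_cancel (a := q) (by simpa [conjA, mul_assoc] using this)))

/-- An element centralising a Sylow `2`-subgroup has image of odd order. -/
theorem Cov.odd_of_central [Finite C] (h : Cov π t) (P : Sylow 2 C) {v : C}
    (hv : v ∈ (P : Subgroup C)) (hvc : ∀ x ∈ (P : Subgroup C), v * x = x * v) : π v = 1 := by
  haveI : Fact (Nat.Prime 2) := ⟨Nat.prime_two⟩
  by_contra hne
  obtain ⟨k, hk⟩ := P.2 ⟨v, hv⟩
  have hk' : π v ^ 2 ^ k = 1 := by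
    rw [← map_pow, show v ^ 2 ^ k = 1 from congrArg Subtype.val hk, map_one]
  obtain ⟨j, hjlt, hj⟩ := (Nat.dvd_prime_pow Nat.prime_two).1 (orderOf_dvd_of_pow_eq_one hk')
  obtain ⟨i, rfl⟩ : ∃ i, j = i + 1 := ⟨j - 1, by
    rcases Nat.eq_zero_or_pos j with rfl | h0
    · rw [pow_zero, orderOf_eq_one_iff] at hj; exact absurd hj hne
    · omega⟩
  set u := v ^ 2 ^ i with hu
  have huord : orderOf (π u) = 2 := by
    rw [hu, map_pow]
    refine orderOf_eq_prime ?_ ?_
    · rw [← pow_mul, ← pow_succ, ← hj]; exact pow_orderOf_eq_one _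
    · intro e
      have h1 := orderOf_dvd_of_pow_eq_one e
      rw [hj, Nat.pow_dvd_pow_iff_le_right (by norm_num)] at h1
      omega
  have huc : ∀ x ∈ (P : Subgroup C), x * u = u * x := fun x hx =>
    (Commute.pow_right (show Commute x v from (hvc x hx).symm) _).eq
  obtain ⟨g, hg, hgu⟩ := h.not_commute huord
  let K : Subgroup C := (Subgroup.centralizer {π u}).comap π
  have hker : ∀ g : K, (g : C) * u * (g : C)⁻¹ * u⁻¹ ∈ π.ker := fun g => by
    have := Subgroup.mem_centralizer_singleton_iff.1 (show π (g : C) ∈ Subgroup.centralizer {π u} from g.2)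
    rw [MonoidHom.mem_ker, map_mul, map_mul, map_mul, map_inv, map_inv, this, mul_inv_cancel_right,
      mul_inv_cancel]
  have hcen : ∀ z ∈ π.ker, ∀ a : C, a * z = z * a := fun z hz a => by
    rcases (h.ker z).1 hz with rfl | rfl
    · rw [mul_one, one_mul]
    · exact h.comm a
  let c : K →* π.ker :=
    { toFun := fun g => ⟨_, hker g⟩
      map_one' := Subtype.ext (by simp)
      map_mul' := fun a b => Subtype.ext (by
        show (a : C) * b * u * ((a : C) * b)⁻¹ * u⁻¹ =
          (a : C) * u * (a : C)⁻¹ * u⁻¹ * ((b : C) * u * (b : C)⁻¹ * u⁻¹)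
        have hb := hcen _ (hker b) (a : C)
        calc (a : C) * b * u * ((a : C) * b)⁻¹ * u⁻¹
            = (a : C) * ((b : C) * u * (b : C)⁻¹ * u⁻¹) * (u * (a : C)⁻¹ * u⁻¹) := by group
          _ = ((b : C) * u * (b : C)⁻¹ * u⁻¹) * ((a : C) * u * (a : C)⁻¹ * u⁻¹) := by rw [hb]; group
          _ = _ := (hcen _ (hker b) _).symm) }
  have hPK : (P : Subgroup C) ≤ K := fun x hx => by
    show π x ∈ Subgroup.centralizer {π u}
    rw [Subgroup.mem_centralizer_singleton_iff, ← map_mul, ← map_mul, huc x hx]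
  have hle : (P : Subgroup C).subgroupOf K ≤ c.ker := fun x hx => Subtype.ext (by
    show (x : C) * u * (x : C)⁻¹ * u⁻¹ = 1
    have e : (x : C) * u = u * (x : C) := huc _ hx
    rw [e, mul_inv_cancel_right, mul_inv_cancel])
  have hodd : ¬ 2 ∣ c.ker.index := fun hd =>
    P.not_dvd_index ((hd.trans (Subgroup.index_dvd_of_le hle)).trans
      (Subgroup.relIndex_dvd_index_of_le hPK))
  have hcard : Nat.card π.ker = 2 := by
    rw [Nat.card_eq_two_iff' (1 : π.ker)]
    exact ⟨⟨t, h.pi_t⟩, fun e => h.ne (congrArg Subtype.val e), fun z hz => Subtype.ext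
      (((h.ker z.1).1 z.2).resolve_left fun e => hz (Subtype.ext e))⟩
  have h1 : c.ker.index = 1 := by
    rw [Subgroup.index_ker] at hodd ⊢
    have hd := Subgroup.card_subgroup_dvd_card c.range
    rw [hcard] at hd
    rcases (Nat.dvd_prime Nat.prime_two).1 hd with e | e
    · exact e
    · exact absurd e.symm.dvd hodd
  rw [Subgroup.index_eq_one] at h1
  have hgK : g ∈ K := Subgroup.mem_centralizer_singleton_iff.2 hg
  have := congrArg Subtype.val (MonoidHom.mem_ker.1 (h1.ge (Subgroup.mem_top ⟨g, hgK⟩)))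
  have : g * u * g⁻¹ * u⁻¹ = 1 := this
  rw [mul_inv_eq_one, mul_inv_eq_iff_eq_mul] at this
  exact hgu this

end

end CfsgLib.KnownB.LyFusion
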