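import Cfsg.Prelude.Def_SporadicB
import Cfsg.Agent.Lib.KnownB.LyFusion.Cover
import Cfsg.Agent.Lib.KnownB.LyFusion.Alt
import Cfsg.Agent.Lib.Fusion.GroupClimb
import Cfsg.Agent.Lib.Involutions.ZStar.Main
import Cfsg.Agent.Lib.PGroups.Basic

/-!
A simple group with an involution centraliser of odd index that is a non-split double cover of the
alternating group of degree `11` has a simple fusion system at the prime two.
-/

set_option autoImplicit false

namespace CfsgLib.KnownB.LyFusion

open Cfsg Cfsg.FusionSystem CfsgLib.Fusion CfsgLib.Fusion.AltModel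

theorem cov_of_nonsplit {C : Type*} [Group C] [Finite C] (t : C) (ht : orderOf t = 2)
    (htc : t ∈ Subgroup.center C)
    (h : Cfsg.IsNonsplitDoubleCover C (alternatingGroup (Fin 11))) :
    ∃ π : C →* alternatingGroup (Fin 11), Cov π t := by
  obtain ⟨hZ, ⟨e⟩, hns⟩ := h
  haveI : Fact (Nat.Prime 2) := ⟨Nat.prime_two⟩
  have ht1 : t ≠ 1 := fun e => by rw [e, orderOf_one] at ht; omega
  have hmem : ∀ a : C, a ∈ Subgroup.center C ↔ a = 1 ∨ a = t := by
    intro a
    refine ⟨fun ha => ?_, ?_⟩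
    · obtain ⟨u, -, hu⟩ := (Nat.card_eq_two_iff' (1 : Subgroup.center C)).1 hZ
      by_cases h1 : a = 1
      · exact Or.inl h1
      · exact Or.inr (congrArg Subtype.val
          ((hu ⟨a, ha⟩ fun e => h1 (congrArg Subtype.val e)).trans
            (hu ⟨t, htc⟩ fun e => ht1 (congrArg Subtype.val e)).symm))
    · rintro (rfl | rfl)
      · exact one_mem _
      · exact htc
  refine ⟨e.toMonoidHom.comp (QuotientGroup.mk' (Subgroup.center C)), ?_⟩
  refine ⟨e.surjective.comp (QuotientGroup.mk'_surjective _), fun a => ?_, ht1, ?_,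
    Subgroup.mem_center_iff.1 htc, ?_⟩
  · rw [MonoidHom.comp_apply, MulEquiv.coe_toMonoidHom, EmbeddingLike.map_eq_one_iff,
      QuotientGroup.mk'_apply, QuotientGroup.eq_one_iff, hmem]
  · rw [← pow_two, ← ht, pow_orderOf_eq_one]
  · rintro ⟨L, hL, htL⟩
    refine hns L (Subgroup.isComplement'_of_card_mul_and_disjoint ?_ (Subgroup.disjoint_def.2 ?_))
    · rw [hL, hZ, Subgroup.card_eq_card_quotient_mul_card_subgroup (Subgroup.center C), hZ,
        Nat.card_congr e.toEquiv, mul_comm]
    · intro x hx hxL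
      rcases (hmem x).1 hx with rfl | rfl
      · rfl
      · exact absurd hxL htL

theorem fusion_simple {G : Type*} [Group G] [Finite G] [IsSimpleGroup G] (t₀ : G)
    (ht₀ : orderOf t₀ = 2) (hodd : Odd (Subgroup.centralizer ({t₀} : Set G)).index)
    (hC₀ : Cfsg.IsNonsplitDoubleCover (Subgroup.centralizer ({t₀} : Set G))
      (alternatingGroup (Fin 11)))
    (S : Sylow 2 G) : (groupFusionSystem (S : Subgroup G)).IsSimple 2 := by
  haveI : Fact (Nat.Prime 2) := ⟨Nat.prime_two⟩
  suffices hS₀ : ∃ S₀ : Sylow 2 G, (groupFusionSystem (S₀ : Subgroup G)).IsSimple 2 by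
    obtain ⟨S₀, h⟩ := hS₀
    exact groupFusion_isSimple_of_equiv (MulEquiv.refl G) S₀ S h
  set C := Subgroup.centralizer ({t₀} : Set G) with hC
  have htC : t₀ ∈ C := Subgroup.mem_centralizer_singleton_iff.2 rfl
  set t : C := ⟨t₀, htC⟩ with htdef
  have htc : t ∈ Subgroup.center C :=
    Subgroup.mem_center_iff.2 fun a => Subtype.ext (Subgroup.mem_centralizer_singleton_iff.1 a.2)
  have hord : orderOf t = 2 := by
    rw [← ht₀]
    exact (orderOf_injective C.subtype C.subtype_injective t).symm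
  obtain ⟨π, hπ⟩ := cov_of_nonsplit t hord htc hC₀
  -- a Sylow subgroup in the centraliser
  let P : Sylow 2 C := default
  obtain ⟨S, hPS⟩ := (P.2.map C.subtype).exists_le_sylow
  have hSeq : (S : Subgroup G) = (P : Subgroup C).map C.subtype := by
    symm
    refine Subgroup.eq_of_le_of_card_ge hPS ?_
    obtain ⟨a, ha⟩ := IsPGroup.iff_card.1 S.2
    rw [Subgroup.card_map_of_injective C.subtype_injective, Sylow.card_eq_multiplicity P, ha]
    refine Nat.pow_le_pow_right (by norm_num) ?_
    rw [← Nat.Prime.pow_dvd_iff_le_factorization Nat.prime_two Nat.card_pos.ne']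
    refine Nat.Coprime.dvd_of_dvd_mul_right
      ((Nat.coprime_two_left.2 hodd).pow_left a) ?_
    rw [Subgroup.card_mul_index]
    exact ha ▸ Subgroup.card_subgroup_dvd_card (S : Subgroup G)
  refine ⟨S, ?_⟩
  have hSC : (S : Subgroup G) ≤ C := hSeq ▸ Subgroup.map_subtype_le _
  have hmemS : ∀ x : C, (x : G) ∈ (S : Subgroup G) ↔ x ∈ (P : Subgroup C) := fun x => by
    rw [hSeq]; exact Subgroup.mem_map_iff_mem C.subtype_injective
  -- the Sylow subgroup downstairs
  let Q := P.mapSurjective (f := π) hπ.surj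
  have hQ : (Q : Subgroup (alternatingGroup (Fin 11))) = (P : Subgroup C).map π := rfl
  have htP : t ∈ (P : Subgroup C) := by
    have hZp : IsPGroup 2 (Subgroup.center C) := IsPGroup.of_card (n := 1) (by rw [hC₀.1, pow_one])
    obtain ⟨P', hP'⟩ := hZp.exists_le_sylow
    obtain ⟨c, hc⟩ := MulAction.exists_smul_eq C P' P
    have h1 := Subgroup.smul_mem_pointwise_smul t (MulAut.conj c) _ (hP' htc)
    rw [MulAut.smul_def, MulAut.conj_apply, Subgroup.mem_center_iff.1 htc c,
      mul_inv_cancel_right] at h1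
    exact hc ▸ h1
  have htS : t₀ ∈ (S : Subgroup G) := (hmemS t).2 htP
  have hpre : ∀ x : C, π x ∈ (Q : Subgroup (alternatingGroup (Fin 11))) → x ∈ (P : Subgroup C) := by
    intro x hx
    rw [hQ] at hx
    obtain ⟨y, hy, hye⟩ := hx
    rcases hπ.eq_or hye with rfl | rfl
    · exact hy
    · exact ((P : Subgroup C).mul_mem_cancel_right htP).1 hy
  -- the centre of the Sylow subgroup
  have hZS : ∀ v ∈ (S : Subgroup G), (∀ x ∈ (S : Subgroup G), v * x = x * v) → v = 1 ∨ v = t₀ := by
    intro v hv hvc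
    have h1 := hπ.odd_of_central P (v := ⟨v, hSC hv⟩) ((hmemS _).1 hv)
      fun x hx => Subtype.ext (hvc x ((hmemS x).2 hx))
    rcases (hπ.ker _).1 h1 with e | e
    · exact Or.inl (congrArg Subtype.val e)
    · exact Or.inr (congrArg Subtype.val e)
  -- Glauberman
  obtain ⟨g₀, hg₀S, hg₀⟩ : ∃ g : G, g * t₀ * g⁻¹ ∈ (S : Subgroup G) ∧ g * t₀ * g⁻¹ ≠ t₀ := by
    by_contra hcon
    push Not at hcon
    have hN := CfsgLib.Involutions.ZStar.centralModCore
      (CfsgLib.Involutions.isolated_of_sylow S ht₀ hcon)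
    have hbot : Cfsg.oddCore G = ⊥ := (Subgroup.Normal.eq_bot_or_eq_top
      (H := Cfsg.oddCore G) (Cfsg.pPrimeCore_normal 2 G)).resolve_right fun e => by
      have h1 := CfsgLib.Base.odd_card_oddCore G
      rw [e, Subgroup.card_top] at h1
      have h2 : 2 ∣ Nat.card G := ht₀ ▸ orderOf_dvd_natCard t₀
      exact Nat.not_even_iff_odd.2 h1 (even_iff_two_dvd.2 h2)
    have htop : C = ⊤ := by
      rw [eq_top_iff]
      intro g _
      have := hN g
      rw [hbot, Subgroup.mem_bot] at this
      refine Subgroup.mem_centralizer_singleton_iff.2 ?_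
      rw [mul_inv_eq_one, mul_inv_eq_iff_eq_mul] at this
      exact this.symm
    have hbad : Subgroup.center G ≠ ⊥ := fun e => by
      have : t₀ ∈ Subgroup.center G := Subgroup.mem_center_iff.2 fun g =>
        Subgroup.mem_centralizer_singleton_iff.1 (htop.ge (Subgroup.mem_top g))
      rw [e, Subgroup.mem_bot] at this
      rw [this, orderOf_one] at ht₀
      omega
    have hab := (Subgroup.Normal.eq_bot_or_eq_top (H := Subgroup.center G) inferInstance).resolve_left hbad
    have h3 : Nat.card (Subgroup.center C) = Nat.card C := by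
      refine Nat.card_congr (Equiv.subtypeUnivEquiv fun a => Subgroup.mem_center_iff.2 fun b =>
        Subtype.ext (Subgroup.mem_center_iff.1 (hab.ge (Subgroup.mem_top (a : G))) b))
    have h4 := Subgroup.card_eq_card_quotient_mul_card_subgroup (Subgroup.center C)
    obtain ⟨-, ⟨e⟩, -⟩ := hC₀
    rw [h3, Nat.card_congr e.toEquiv] at h4
    have h5 : Nat.card C * 2 = Nat.card C * 39916800 := by
      conv_lhs => rw [h4]
      have := two_mul_nat_card_alternatingGroup (α := Fin 11)
      rw [Nat.card_perm, Nat.card_fin] at this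
      rw [show (39916800 : ℕ) = Nat.factorial 11 from rfl, ← this]
      ring
    have := Nat.eq_of_mul_eq_mul_left Nat.card_pos h5
    norm_num at this
  refine groupFusion_isSimple_of_climb S ?_ ?_ ?_
  · intro hb
    rw [hb, Subgroup.mem_bot] at htS
    rw [htS, orderOf_one] at ht₀
    omega
  · rintro T hT hne
    have hTS : T ≤ (S : Subgroup G) := hT.1
    -- the centre lies in the subgroup
    have htT : t₀ ∈ T := by
      haveI : Nontrivial T := T.nontrivial_iff_ne_bot.2 hne
      haveI : Finite T := inferInstance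
      let X := T.subgroupOf (S : Subgroup G)
      haveI hXn : X.Normal := ⟨fun x hx s => mem_of_closed hT hx (s * x * s⁻¹).2
        (_root_.isConj_iff.2 ⟨(s : G), rfl⟩)⟩
      have hX : X ≠ ⊥ := fun e => hne (by
        refine (Subgroup.eq_bot_iff_forall _).2 fun x hx => ?_
        have h1 : (⟨x, hTS hx⟩ : (S : Subgroup G)) ∈ X := hx
        rw [e, Subgroup.mem_bot] at h1
        exact congrArg Subtype.val h1)
      haveI : Nontrivial X := X.nontrivial_iff_ne_bot.2 hX
      obtain ⟨v, hvX, hvZ, hv1⟩ : ∃ v : (S : Subgroup G), v ∈ X ∧ v ∈ Subgroup.center _ ∧ v ≠ 1 := by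
        have h1 := CfsgLib.PGroups.inf_center_ne_bot S.2 hX
        rw [ne_eq, Subgroup.eq_bot_iff_forall] at h1
        push Not at h1
        obtain ⟨v, hv, hv1⟩ := h1
        exact ⟨v, hv.1, hv.2, hv1⟩
      rcases hZS v v.2 (fun x hx => (congrArg Subtype.val (Subgroup.mem_center_iff.1 hvZ ⟨x, hx⟩)).symm)
        with e | e
      · exact absurd (Subtype.ext e) hv1
      · exact e ▸ hvX
    have hu : g₀ * t₀ * g₀⁻¹ ∈ T := mem_of_closed hT htT hg₀S (_root_.isConj_iff.2 ⟨g₀, rfl⟩)
    -- the image downstairs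
    set Tb := (T.subgroupOf C).map π with hTb
    have hTbQ : Tb ≤ (Q : Subgroup (alternatingGroup (Fin 11))) := by
      rw [hQ]
      exact Subgroup.map_mono fun x hx => (hmemS x).1 (hTS hx)
    have hclosed : ∀ x ∈ Tb, ∀ g : alternatingGroup (Fin 11),
        g * x * g⁻¹ ∈ (Q : Subgroup (alternatingGroup (Fin 11))) → g * x * g⁻¹ ∈ Tb := by
      rintro _ ⟨x, hx, rfl⟩ g hg
      obtain ⟨c, rfl⟩ := hπ.surj g
      rw [← map_inv, ← map_mul, ← map_mul] at hg ⊢
      exact Subgroup.mem_map_of_mem _ (show ((c * x * c⁻¹ : C) : G) ∈ T from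
        mem_of_closed hT hx ((hmemS _).2 (hpre _ hg)) (_root_.isConj_iff.2 ⟨(c : G), rfl⟩))
    have hne' : Tb ≠ ⊥ := fun e => by
      have h1 : π ⟨_, hSC hg₀S⟩ ∈ Tb := Subgroup.mem_map_of_mem _ hu
      rw [e, Subgroup.mem_bot] at h1
      rcases (hπ.ker _).1 h1 with h2 | h2
      · have h3 : g₀ * t₀ * g₀⁻¹ = 1 := congrArg Subtype.val h2
        rw [conj_eq_one_iff] at h3
        rw [h3, orderOf_one] at ht₀
        omega
      · exact hg₀ (congrArg Subtype.val h2)
    have hall := alt_closed_eq Q Tb hTbQ hclosed hne'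
    intro x hx
    have hxP : (⟨x, hSC hx⟩ : C) ∈ (P : Subgroup C) := (hmemS _).1 hx
    obtain ⟨y, hy, hye⟩ := hall (by rw [hQ]; exact Subgroup.mem_map_of_mem π hxP)
    rcases hπ.eq_or hye with e | e
    · have : (y : G) ∈ T := hy
      rwa [e] at this
    · have : (y : G) ∈ T := hy
      rw [e, Subgroup.coe_mul] at this
      exact (T.mul_mem_cancel_right htT).1 this
  · intro E hEs hsub hinv hp g hg
    have hgt : g * t₀ * g⁻¹ = t₀ := by
      have h1 : g * t₀ * g⁻¹ ∈ (S : Subgroup G) := (Subgroup.mem_normalizer_iff.1 hg t₀).1 htS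
      refine (hZS _ h1 fun x hx => ?_).resolve_left fun e => ?_
      · have hx' : g⁻¹ * x * g ∈ (S : Subgroup G) := by
          rw [Subgroup.mem_normalizer_iff.1 hg]; simpa [mul_assoc] using hx
        have h2 := Subgroup.mem_centralizer_singleton_iff.1 (hSC hx')
        calc g * t₀ * g⁻¹ * x = g * (t₀ * (g⁻¹ * x * g)) * g⁻¹ := by group
          _ = g * (g⁻¹ * x * g * t₀) * g⁻¹ := by rw [h2]
          _ = x * (g * t₀ * g⁻¹) := by group
      · rw [conj_eq_one_iff] at e
        rw [e, orderOf_one] at ht₀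
        omega
    have hgC : g ∈ C := Subgroup.mem_centralizer_singleton_iff.2 (mul_inv_eq_iff_eq_mul.1 hgt)
    have hnorm : π ⟨g, hgC⟩ ∈ Subgroup.normalizer ((Q : Subgroup (alternatingGroup (Fin 11))) : Set _) := by
      rw [hQ]
      refine Subgroup.le_normalizer_map π ⟨_, ?_, rfl⟩
      refine Subgroup.mem_normalizer_iff.2 fun x => ?_
      rw [← hmemS, ← hmemS]
      exact Subgroup.mem_normalizer_iff.1 hg x
    rw [CfsgLib.KnownA.SylowAlt.normalizer_sylow_alt 11 (by norm_num)] at hnorm
    exact isMor_cj E le_rfl ((hmemS _).2 (hpre _ hnorm))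

end CfsgLib.KnownB.LyFusion
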